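import Groth.Agent.Refuted.K836.Iface
import Groth.Agent.Refuted.K390.Exc
import Groth.Agent.Refuted.K390.Chart
import Groth.Agent.Refuted.K855.Nodes
import Groth.Agent.Refuted.K467.T4
import Groth.Agent.Refuted.K332.Nu
import Groth.Agent.Refuted.K640.V
import Groth.Agent.Refuted.K609.MVPull
import Groth.Agent.Refuted.K609.HProj
import Groth.Agent.Refuted.K870.Nodes
import Groth.Agent.S8859
import Groth.Agent.Refuted.K390.Overlap
import Groth.Agent.Refuted.K899.T6

/-!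
# The geometric example: `X = Bl_I (Spec T) ⟶ Spec T`

`ChartData` packages the two charts of the blow-ups `X = Bl_I Y` and `X'' = Bl_J Y`. From them we get the structure
`GeoEx` of helper836, `R¹b_* O_X ≠ 0` and, for `X''`, `O_Y = b''_* O_X''` and `R^p b''_* O_X'' = 0` for `p > 0`.
-/

set_option autoImplicit false
universe u
open CategoryTheory CategoryTheory.Limits AlgebraicGeometry TopologicalSpace BlowUp
attribute [local instance] HasDerivedCategory.standard

namespace Groth.Agent.Refuted.K78.Geo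

open Groth.Agent.Divis.BlowChart Groth.Agent.Refuted.K826 Groth.Agent.Refuted.K836

variable {k : Type u} [Field k]

/-- Two charts `Spec T` which cover `X`, with overlap `Spec C`. -/
structure ChartData {X : Scheme.{u}} (b : X ⟶ Spec (CommRingCat.of (T k))) (φ₁ φ₂ : T k →+* T k)
    (C : Type u) [CommRing C] [Algebra (T k) C] where
  /-- the first chart -/
  j₁ : Spec (CommRingCat.of (T k)) ⟶ X
  /-- the second chart -/
  j₂ : Spec (CommRingCat.of (T k)) ⟶ X
  o₁ : IsOpenImmersion j₁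
  o₂ : IsOpenImmersion j₂
  hj₁ : j₁ ≫ b = Spec.map (CommRingCat.ofHom φ₁)
  hj₂ : j₂ ≫ b = Spec.map (CommRingCat.ofHom φ₂)
  cov : j₁.opensRange ⊔ j₂.opensRange = ⊤
  /-- the second restriction -/
  r : T k →+* C
  hr : r.comp φ₂ = (algebraMap (T k) C).comp φ₁
  pb : IsPullback (Spec.map (CommRingCat.ofHom (algebraMap (T k) C))) (Spec.map (CommRingCat.ofHom r)) j₁ j₂

theorem eta_sq : (eta : T k) ^ 2 = 0 := by rw [pow_two, TrivSqZeroExt.inr_mul_inr]

theorem e₁_sq : (e₁ : T k) ^ 2 = 0 := by rw [pow_two, TrivSqZeroExt.inr_mul_inr]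

theorem e₂_sq : (e₂ : T k) ^ 2 = 0 := by rw [pow_two, TrivSqZeroExt.inr_mul_inr]

section Cover

variable {X : Scheme.{u}} {b : X ⟶ Spec (CommRingCat.of (T k))}

theorem cover_I (hb : IsBlowUp b (idl (cI k))) :
    chartLocus (cI k) b (x₀ ^ 2) ⊔ chartLocus (cI k) b (x₁ ^ 2) = ⊤ :=
  K390.ChartModel.chartLocus_sup_eq_top hb.1 (q := x₀ * x₁) (e := eta) rfl (by ring) eta_sq

theorem cover_J (hb : IsBlowUp b (idl (cJ k))) :
    chartLocus (cJ k) b x₀ ⊔ chartLocus (cJ k) b x₁ = ⊤ := by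
  rw [eq_top_iff]
  intro x _
  obtain ⟨a, ha, hxa⟩ := Groth.Agent.Divis.BlowChart2.exists_mem_chartLocus_of_span (cJ k) b hb.1 rfl x
  rcases ha with rfl | rfl | rfl | rfl
  · exact Or.inl hxa
  · exact Or.inr hxa
  · exact absurd hxa (K390.ChartModel.notMem_chartLocus_of_sq_eq_zero _ b hb.1 e₁_sq x)
  · exact absurd hxa (K390.ChartModel.notMem_chartLocus_of_sq_eq_zero _ b hb.1 e₂_sq x)

theorem phi1_w : (phi1 (x₁ ^ 2) : T k) = phi1 (x₀ ^ 2) * x₁ ^ 2 := by
  rw [map_pow, map_pow, K467.phi1_x₀, K467.phi1_x₁]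
  ring

theorem psi1_w : (psi1 x₁ : T k) = psi1 x₀ * x₁ := by
  rw [K467.psi1_x₀, K467.psi1_x₁]

section
variable (C : Type u) [CommRing C] [Algebra (T k) C]

theorem chartData_I (hb : IsBlowUp b (idl (cI k))) [IsLocalization.Away ((x₁ : T k) ^ 2) C]
    (h : ∃ r : T k →+* C, r.comp phi2 = (algebraMap (T k) C).comp phi1) :
    Nonempty (ChartData b phi1 phi2 C) := by
  have c1 := K467.isChart_phi1 k
  have c2 := K467.isChart_phi2 k
  obtain ⟨j₁, o₁, h₁, r₁⟩ := K390.exists_chart hb c1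
  obtain ⟨j₂, o₂, h₂, r₂⟩ := K390.exists_chart hb c2
  obtain ⟨r, hr⟩ := h
  exact ⟨⟨j₁, j₂, o₁, o₂, h₁, h₂, by rw [r₁, r₂, cover_I hb], r, hr,
    K390.isPullback_charts hb c1 (x₁ ^ 2) phi1_w r hr j₁ j₂ h₁ h₂ r₂⟩⟩

theorem chartData_J (hb : IsBlowUp b (idl (cJ k))) [IsLocalization.Away (x₁ : T k) C]
    (h : ∃ r : T k →+* C, r.comp psi2 = (algebraMap (T k) C).comp psi1) :
    Nonempty (ChartData b psi1 psi2 C) := by
  have c1 := K467.isChart_psi1 k
  have c2 := K467.isChart_psi2 k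
  obtain ⟨j₁, o₁, h₁, r₁⟩ := K390.exists_chart hb c1
  obtain ⟨j₂, o₂, h₂, r₂⟩ := K390.exists_chart hb c2
  obtain ⟨r, hr⟩ := h
  exact ⟨⟨j₁, j₂, o₁, o₂, h₁, h₂, by rw [r₁, r₂, cover_J hb], r, hr,
    K390.isPullback_charts hb c1 x₁ psi1_w r hr j₁ j₂ h₁ h₂ r₂⟩⟩

end

end Cover

theorem nontrivial_of_away (C : Type u) [CommRing C] [Algebra (T k) C] [IsLocalization.Away (x₁ : T k) C] :
    Nontrivial C := by
  refine ⟨⟨1, 0, fun h => ?_⟩⟩
  rw [← map_one (algebraMap (T k) C), ← map_zero (algebraMap (T k) C),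
    IsLocalization.eq_iff_exists (Submonoid.powers (x₁ : T k)) C] at h
  obtain ⟨⟨_, n, rfl⟩, hc⟩ := h
  have h1 := congrArg TrivSqZeroExt.fst hc
  simp only [mul_one, mul_zero, TrivSqZeroExt.fst_pow, TrivSqZeroExt.fst_inl, TrivSqZeroExt.fst_zero] at h1
  exact pow_ne_zero n (MvPolynomial.X_ne_zero (R := k) (1 : Fin 2)) h1

section Data

variable {X : Scheme.{u}} {b : X ⟶ Spec (CommRingCat.of (T k))} {φ₁ φ₂ : T k →+* T k}
  {C : Type u} [CommRing C] [Algebra (T k) C]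

theorem ChartData.ne_bot [Nontrivial C] (D : ChartData b φ₁ φ₂ C) :
    haveI := D.o₁
    haveI := D.o₂
    (D.j₁.opensRange ⊓ D.j₂.opensRange : X.Opens) ≠ ⊥ := by
  have := D.o₁
  have := D.o₂
  intro h
  obtain ⟨z⟩ : Nonempty (Spec (CommRingCat.of C)) := inferInstanceAs (Nonempty (PrimeSpectrum C))
  have hz : D.j₁ (Spec.map (CommRingCat.ofHom (algebraMap (T k) C)) z) ∈
      (D.j₁.opensRange ⊓ D.j₂.opensRange : X.Opens) := by
    refine ⟨⟨_, rfl⟩, ⟨Spec.map (CommRingCat.ofHom D.r) z, ?_⟩⟩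
    rw [← Scheme.Hom.comp_apply, ← Scheme.Hom.comp_apply, D.pb.w]
  rw [h] at hz
  exact hz

theorem ChartData.cm (D : ChartData b φ₁ φ₂ C) (x : X) :
    LocCoh.IsCohenMacaulayLocalRing (X.presheaf.stalk x) :=
  have := D.o₁
  have := D.o₂
  K855.Nodes.cm_stalk k D.j₁ D.j₂ D.cov x

theorem ChartData.pureDim [Nontrivial C] (D : ChartData b φ₁ φ₂ C) (Z : Set X)
    (hZ : Z ∈ irreducibleComponents (X : Type u)) : topologicalKrullDim Z = (2 : ℕ) :=
  have := D.o₁
  have := D.o₂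
  K855.Dim.pureDim D.j₁ D.j₂ D.cov D.ne_bot Z hZ

theorem ChartData.irreducibleSpace [Nontrivial C] (D : ChartData b φ₁ φ₂ C) : IrreducibleSpace X :=
  have := D.o₁
  have := D.o₂
  K855.Dim.irreducibleSpace_two D.j₁ D.j₂ D.cov D.ne_bot

theorem ChartData.not_isZero [QuasiCompact b] [QuasiSeparated b] [HasInjectiveResolutions X.Modules]
    (D : ChartData b φ₁ φ₂ C) (c : C) (hc : ∀ c₁ c₂, c ≠ algebraMap (T k) C c₁ + D.r c₂) :
    ¬ IsZero ((Coh.Rpush b 1).obj (Coh.structureModule X)) :=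
  have := D.o₁
  have := D.o₂
  K609.MVPull.not_isZero_Rpush b D.j₁ D.j₂ D.cov _ D.r D.pb c hc

theorem ChartData.isZero [QuasiCompact b] [QuasiSeparated b] [HasInjectiveResolutions X.Modules]
    (D : ChartData b φ₁ φ₂ C) (hc : ∀ c : C, ∃ c₁ c₂, c = algebraMap (T k) C c₁ + D.r c₂) (p : ℕ)
    (hp : 0 < p) : IsZero ((Coh.Rpush b p).obj (Coh.structureModule X)) :=
  have := D.o₁
  have := D.o₂
  K609.MVPull.isZero_Rpush b D.j₁ D.j₂ D.cov _ D.r D.pb hc p hp

theorem ChartData.isIso_unitToPush [QuasiCompact b] [QuasiSeparated b] (D : ChartData b φ₁ φ₂ C)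
    (hinj : Function.Injective φ₁)
    (hc : ∀ c₁ c₂, algebraMap (T k) C c₁ = D.r c₂ → ∃ a, φ₁ a = c₁ ∧ φ₂ a = c₂) :
    IsIso (ClSub.unitToPush b) :=
  have := D.o₁
  have := D.o₂
  K609.MVPull.isIso_unitToPush b D.j₁ D.j₂ D.cov _ D.r D.pb φ₁ φ₂ D.hj₁ D.hj₂
    (fun _ h _ => hinj (h.trans (map_zero _).symm)) hc

end Data

section Geo

variable {X : Scheme.{u}} {b : X ⟶ Spec (CommRingCat.of (T k))}

theorem isNoetherian_base : IsNoetherian (Spec (CommRingCat.of (T k))) := by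
  have : IsNoetherianRing (CommRingCat.of (T k)) := inferInstanceAs (IsNoetherianRing (T k))
  infer_instance

theorem isNoetherian_of_isProper [IsProper b] : IsNoetherian X := by
  have := isNoetherian_base (k := k)
  have h1 : IsLocallyNoetherian X := LocallyOfFiniteType.isLocallyNoetherian b
  have h2 : CompactSpace X := by
    rw [← isCompact_univ_iff]
    exact QuasiCompact.isCompact_preimage (f := b) Set.univ isOpen_univ isCompact_univ
  exact { }

variable (k) in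
theorem exists_TL : ∃ (C : Type u) (_ : CommRing C) (_ : Algebra (T k) C) (_ : IsLocalization.Away (x₁ : T k) C)
    (_ : IsLocalization.Away ((x₁ : T k) ^ 2) C),
    (∃ r : T k →+* C, r.comp phi2 = (algebraMap (T k) C).comp phi1) ∧
    (∃ r : T k →+* C, r.comp psi2 = (algebraMap (T k) C).comp psi1) ∧
    (∀ r : T k →+* C, r.comp phi2 = (algebraMap (T k) C).comp phi1 →
      ∃ c : C, ∀ c₁ c₂, c ≠ algebraMap (T k) C c₁ + r c₂) ∧
    (∀ r : T k →+* C, r.comp psi2 = (algebraMap (T k) C).comp psi1 →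
      ∀ c : C, ∃ c₁ c₂, c = algebraMap (T k) C c₁ + r c₂) ∧
    (∀ r : T k →+* C, r.comp psi2 = (algebraMap (T k) C).comp psi1 → ∀ c₁ c₂ : T k,
      algebraMap (T k) C c₁ = r c₂ → ∃ a, psi1 a = c₁ ∧ psi2 a = c₂) :=
  ⟨K899.TL k, inferInstance, inferInstance, inferInstance, K899.isLocalization_sq, K899.exists_r, K899.exists_r'',
    K899.cech_X, K899.cech_X''_surj, K899.cech_X''_glue⟩

theorem exists_chartData_I (hb : IsBlowUp b (idl (cI k))) :
    ∃ (C : Type u) (_ : CommRing C) (_ : Algebra (T k) C) (_ : Nontrivial C) (D : ChartData b phi1 phi2 C),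
      ∃ c : C, ∀ c₁ c₂, c ≠ algebraMap (T k) C c₁ + D.r c₂ := by
  obtain ⟨C, i1, i2, i3, i4, hr, -, hc, -, -⟩ := exists_TL k
  obtain ⟨D⟩ := chartData_I C hb hr
  exact ⟨C, i1, i2, nontrivial_of_away (k := k) C, D, hc D.r D.hr⟩

theorem exists_chartData_J (hb : IsBlowUp b (idl (cJ k))) :
    ∃ (C : Type u) (_ : CommRing C) (_ : Algebra (T k) C) (_ : Nontrivial C) (D : ChartData b psi1 psi2 C),
      (∀ c : C, ∃ c₁ c₂, c = algebraMap (T k) C c₁ + D.r c₂) ∧
      ∀ c₁ c₂ : T k, algebraMap (T k) C c₁ = D.r c₂ → ∃ a, psi1 a = c₁ ∧ psi2 a = c₂ := by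
  obtain ⟨C, i1, i2, i3, i4, -, hr, -, hc, hd⟩ := exists_TL k
  obtain ⟨D⟩ := chartData_J C hb hr
  exact ⟨C, i1, i2, nontrivial_of_away (k := k) C, D, hc D.r D.hr, hd D.r D.hr⟩

/-- The geometric part of the counterexample. -/
noncomputable def geoEx (hb : IsBlowUp b (idl (cI k))) : GeoEx.{u} where
  X := X
  Y := Spec (CommRingCat.of (T k))
  f := b
  noethX := have := K609.HProj.isProper hb; isNoetherian_of_isProper (b := b)
  noethY := isNoetherian_base
  affY := inferInstance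
  excX U := have := K609.HProj.isProper hb; K390.Exc.isExcellent_affineOpens_of_algebra k (T k) b U
  excY U := K390.Exc.isExcellent_affineOpens_of_algebra k (T k) (𝟙 _) U
  cmX x := by
    obtain ⟨C, _, _, _, D, -⟩ := exists_chartData_I hb
    exact D.cm x
  cmY := K855.Nodes.cm_stalk_base k
  pdX Z hZ := by
    obtain ⟨C, _, _, _, D, -⟩ := exists_chartData_I hb
    exact D.pureDim Z hZ
  pdY := K855.Dim.pureDim_base
  prop := K609.HProj.isProper hb
  proj := K609.HProj.locally_hprojective hb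
  V := (K640.V.exists_V hb).choose
  codim := (K640.V.exists_V hb).choose_spec.1
  denseV := (K640.V.exists_V hb).choose_spec.2.1
  denseVX := (K640.V.exists_V hb).choose_spec.2.2.1
  iso := (K640.V.exists_V hb).choose_spec.2.2.2

@[simp] theorem geoEx_X (hb : IsBlowUp b (idl (cI k))) : (geoEx hb).X = X := rfl
@[simp] theorem geoEx_f (hb : IsBlowUp b (idl (cI k))) : (geoEx hb).f = b := rfl

theorem irreducibleSpace_X (hb : IsBlowUp b (idl (cI k))) : IrreducibleSpace X := by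
  obtain ⟨C, _, _, _, D, -⟩ := exists_chartData_I hb
  exact D.irreducibleSpace

/-- `R¹b_* O_X ≠ 0`. -/
theorem not_isZero (hb : IsBlowUp b (idl (cI k))) [HasInjectiveResolutions X.Modules] :
    ¬ IsZero ((Coh.Rpush b 1).obj (Coh.structureModule X)) := by
  have := K609.HProj.isProper hb
  obtain ⟨C, _, _, _, D, c, hc⟩ := exists_chartData_I hb
  exact D.not_isZero c hc

/-- `R^p b''_* O_X'' = 0` for `p > 0`. -/
theorem isZero (hb : IsBlowUp b (idl (cJ k))) [HasInjectiveResolutions X.Modules] (p : ℕ) (hp : 0 < p) :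
    IsZero ((Coh.Rpush b p).obj (Coh.structureModule X)) := by
  have := K609.HProj.isProper hb
  obtain ⟨C, _, _, _, D, hc, -⟩ := exists_chartData_J hb
  exact D.isZero hc p hp

/-- `O_Y = b''_* O_X''`. -/
theorem isIso_unitToPush (hb : IsBlowUp b (idl (cJ k))) : IsIso (ClSub.unitToPush b) := by
  have := K609.HProj.isProper hb
  obtain ⟨C, _, _, _, D, -, hc⟩ := exists_chartData_J hb
  exact D.isIso_unitToPush (K467.isChart_psi1 k).inj hc

end Geo

section Main

/-- Everything about the example: the geometry, `R¹f_* O_X ≠ 0` and the morphism `ν : X'' ⟶ X` with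
`O_Y = R(ν ≫ f)_* O_X''`. -/
theorem exists_geo (k : Type u) [Field k] :
    ∃ (E : GeoEx.{u}) (W : Scheme.{u}) (ν : W ⟶ E.X), IsNoetherian W ∧ IsProper (ν ≫ E.f) ∧
      IrreducibleSpace E.Y ∧ IrreducibleSpace E.X ∧
      (∀ [HasInjectiveResolutions E.X.Modules],
        ¬ IsZero ((Coh.Rpush E.f 1).obj (Coh.structureModule E.X))) ∧
      IsIso (ClSub.unitToPush (ν ≫ E.f)) ∧
      (∀ [HasInjectiveResolutions W.Modules] (p : ℕ), 0 < p →
        IsZero ((Coh.Rpush (ν ≫ E.f) p).obj (Coh.structureModule W))) ∧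
      Nonempty (DualEx E) := by
  obtain ⟨X, b, hb⟩ := Groth.Agent.S8859.result (Spec (CommRingCat.of (T k))) (idl (cI k))
  obtain ⟨X'', b'', hb''⟩ := Groth.Agent.S8859.result (Spec (CommRingCat.of (T k))) (idl (cJ k))
  obtain ⟨ν, rfl⟩ := K332.Nu.exists_nu k hb hb''
  have hp := K609.HProj.isProper hb''
  have hY : IrreducibleSpace (Spec (CommRingCat.of (T k))) := K855.Dim.irreducible_T k
  have r1 := K870.Inst.restrict_exact (Spec (CommRingCat.of (T k)))
  have r2 := K870.Inst.tilde_exact.{u}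
  obtain ⟨K, hK, hd⟩ := K870.Nodes.exists_K k (-((2 : ℕ) : ℤ))
  exact ⟨geoEx hb, X'', ν, isNoetherian_of_isProper (b := ν ≫ b), hp, hY, irreducibleSpace_X hb, not_isZero hb,
    isIso_unitToPush hb'', isZero hb'', ⟨⟨r1, r2, K, hK, hd⟩⟩⟩

end Main

end Groth.Agent.Refuted.K78.Geo
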